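import Groth.Agent.WildQuot7.Minor
import Groth.Agent.AS7.Family

/-! Minors of the Artin–Schreier family over a power series ring. -/

set_option autoImplicit false
universe u

open MvPolynomial

namespace Groth.Agent.WildQuot7

attribute [-instance] Ideal.Quotient.semiring

variable (p : ℕ) [Fact p.Prime] (k : Type u) [Field k] [CharP k p] {n : ℕ}
  (a : Fin n → MvPowerSeries (Fin n) k) (μ : MvPowerSeries (Fin n) k) (i₀ : Fin n)

theorem minors (hn : 2 ≤ n) (ham : ∀ i, MvPowerSeries.constantCoeff (a i) = 0)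
    (hcop : ∀ i j, i ≠ j → IsRelPrime (a i) (a j)) :
    let A := MvPolynomial (Fin n) (MvPowerSeries (Fin n) k) ⧸ AS7.rel (fun i => μ * a i) p
    let u : Fin n → A := fun i => Ideal.Quotient.mk _ (X i)
    RingHom.ker (psi a u i₀) = relM a (fun i => MvPowerSeries.X i) μ i₀ p ∧
      (∀ s : A ≃ₐ[MvPowerSeries (Fin n) k] A, μ ≠ 0 → (∀ i, s (u i) = u i + algebraMap _ A (μ * a i)) → ∀ t : A, s t = t →
        ∃ N : ℕ, algebraMap _ A (μ * a i₀) ^ N * t ∈ Algebra.adjoin (MvPowerSeries (Fin n) k) (Set.range (zm a u i₀))) := by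
  intro A u
  have hp : 1 < p := (Fact.out : p.Prime).one_lt
  haveI : CharP (MvPowerSeries (Fin n) k) p := charP_of_injective_algebraMap (algebraMap k _).injective p
  obtain ⟨bA, -⟩ := AS7.exists_basis_family (a := fun i => μ * a i) hp
  have ha : a i₀ ≠ 0 := by
    intro h0
    obtain ⟨j, hj⟩ : ∃ j : Fin n, j ≠ i₀ := by
      haveI : Nontrivial (Fin n) := Fin.nontrivial_iff_two_le.mpr hn
      exact exists_ne i₀
    have h := hcop i₀ j (Ne.symm hj) (d := a j) (by rw [h0]; exact dvd_zero _) dvd_rfl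
    rw [MvPowerSeries.isUnit_iff_constantCoeff, ham] at h
    exact not_isUnit_zero h
  have hgen : Algebra.adjoin (MvPowerSeries (Fin n) k) (Set.range u) = ⊤ := by
    rw [show Set.range u = Ideal.Quotient.mkₐ (MvPowerSeries (Fin n) k) (AS7.rel (fun i => μ * a i) p) '' Set.range X by
      rw [← Set.range_comp]; rfl, Algebra.adjoin_image, MvPolynomial.adjoin_range_X, Algebra.map_top,
      AlgHom.range_eq_top]
    exact Ideal.Quotient.mk_surjective
  haveI : IsDomain (MvPowerSeries (Fin n) k) := NoZeroDivisors.to_isDomain _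
  exact main a (fun i => MvPowerSeries.X i) μ u i₀ (fun i => AS7.u_pow i) hgen bA ha

theorem relM_eq : relM a (fun i => MvPowerSeries.X i) μ i₀ p =
    Ideal.span (Set.range fun j : {j : Fin n // j ≠ i₀} => X j ^ p - C ((μ * a i₀ * a j.1) ^ (p - 1)) * X j
      - C (a i₀ ^ p * MvPowerSeries.X j.1 - a j.1 ^ p * MvPowerSeries.X i₀)) := by
  simp only [relM, aeval_fm, MvPolynomial.algebraMap_eq]

end Groth.Agent.WildQuot7
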