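import Mathlib

/-! Normality of a localisation of a ring of invariants. -/

set_option autoImplicit false
universe u v

namespace Groth.Agent.WildQuot7

/-- If `B` maps into the fixed ring of an endomorphism `s` of a normal domain `A`, bijectively after inverting `g`,
then `B[1/g]` is integrally closed. -/
theorem isIntegrallyClosed_away {B : Type u} [CommRing B] [IsDomain B] {A : Type v} [CommRing A] [IsDomain A]
    [IsIntegrallyClosed A] (ψ : B →+* A) (hψ : Function.Injective ψ) (s : A →+* A) (hs : ∀ c, s (ψ c) = ψ c)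
    (g : B) (hg : g ≠ 0) (hfix : ∀ t, s t = t → ∃ (N : ℕ) (c : B), ψ c = ψ g ^ N * t) :
    IsIntegrallyClosed (Localization.Away g) := by
  let L := Localization.Away g
  haveI : IsDomain L := IsLocalization.isDomain_localization (powers_le_nonZeroDivisors_of_noZeroDivisors hg)
  let K := FractionRing B
  have hgu : IsUnit (algebraMap B K g) :=
    isUnit_iff_ne_zero.mpr fun h => hg ((map_eq_zero_iff _ (IsFractionRing.injective B K)).mp h)
  letI : Algebra L K := (IsLocalization.Away.lift (S := L) g hgu).toAlgebra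
  haveI : IsScalarTower B L K := IsScalarTower.of_algebraMap_eq fun b =>
    (IsLocalization.Away.lift_eq g hgu b).symm
  haveI : IsFractionRing L K :=
    IsFractionRing.isFractionRing_of_isDomain_of_isLocalization (Submonoid.powers g) L K
  let KA := FractionRing A
  let φ : K →+* KA := IsFractionRing.lift (g := (algebraMap A KA).comp ψ)
    ((IsFractionRing.injective A KA).comp hψ)
  have hφ : ∀ b : B, φ (algebraMap B K b) = algebraMap A KA (ψ b) := fun b =>
    IsFractionRing.lift_algebraMap _ b
  refine (isIntegrallyClosed_iff K).mpr fun {x} hx => ?_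
  obtain ⟨⟨_, M, rfl⟩, hM⟩ := IsIntegral.exists_multiple_integral_of_isLocalization (Submonoid.powers g) x hx
  set y : K := algebraMap B K (g ^ M) * x with hy
  have hyi : IsIntegral B y := by
    rw [hy, ← Algebra.smul_def]; exact hM
  obtain ⟨P, hP, hPy⟩ := hyi
  obtain ⟨t, ht⟩ : ∃ t : A, algebraMap A KA t = φ y := by
    refine IsIntegrallyClosed.isIntegral_iff.mp ⟨P.map ψ, hP.map ψ, ?_⟩
    rw [Polynomial.eval₂_map, show (algebraMap A KA).comp ψ = φ.comp (algebraMap B K) from
      RingHom.ext fun b => (hφ b).symm, ← Polynomial.hom_eval₂, hPy, map_zero]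
  obtain ⟨b, c, hc, hbc⟩ := IsFractionRing.div_surjective B y
  have hc0 : c ≠ 0 := nonZeroDivisors.ne_zero hc
  have hck : algebraMap B K c ≠ 0 := fun h => hc0 ((map_eq_zero_iff _ (IsFractionRing.injective B K)).mp h)
  have h1 : ψ c * t = ψ b := by
    refine IsFractionRing.injective A KA ?_
    rw [map_mul, ht, ← hφ, ← hφ, ← map_mul, ← hbc, mul_div_cancel₀ _ hck]
  obtain ⟨N, d, hd⟩ := hfix t (mul_left_cancel₀ (fun h => hc0 ((map_eq_zero_iff ψ hψ).mp h) : ψ c ≠ 0) (by
    conv_lhs => rw [← hs c, ← map_mul, h1, hs]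
    rw [h1]))
  have h2 : c * d = g ^ N * b := hψ (by rw [map_mul, map_mul, map_pow, hd, ← h1]; ring)
  refine ⟨IsLocalization.mk' L d (⟨g ^ (M + N), M + N, rfl⟩ : Submonoid.powers g), ?_⟩
  have hgk : algebraMap B K (g ^ (M + N)) ≠ 0 := fun h =>
    pow_ne_zero _ hg ((map_eq_zero_iff _ (IsFractionRing.injective B K)).mp h)
  refine mul_left_cancel₀ hgk ?_
  rw [IsScalarTower.algebraMap_apply B L K (g ^ (M + N)), ← map_mul, IsLocalization.mk'_spec'_mk,
    ← IsScalarTower.algebraMap_apply B L K, ← IsScalarTower.algebraMap_apply B L K, pow_add, map_mul,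
    show algebraMap B K (g ^ M) * algebraMap B K (g ^ N) * x = algebraMap B K (g ^ N) * y by rw [hy]; ring,
    ← hbc, mul_div, ← map_mul, ← h2, map_mul, mul_div_assoc]
  rw [← mul_div_assoc, mul_div_cancel_left₀ _ hck]

end Groth.Agent.WildQuot7
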