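import Groth.Agent.WildQuot7.Apply
import Groth.Agent.WildQuot7.AwayNormal
import Groth.Agent.AS7.Galois
import Groth.Agent.RegUFD.Basic

/-! The complete intersection of the minors is a domain which is normal away from `μ a i₀`. -/

set_option autoImplicit false
universe u

attribute [-instance] Ideal.Quotient.semiring

open MvPolynomial

namespace Groth.Agent.WildQuot7

theorem closure (p : ℕ) [Fact p.Prime] (k : Type u) [Field k] [CharP k p] (n : ℕ) (hn : 2 ≤ n)
    (a : Fin n → MvPowerSeries (Fin n) k) (μ : MvPowerSeries (Fin n) k)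
    (ham : ∀ i, MvPowerSeries.constantCoeff (a i) = 0) (hcop : ∀ i j, i ≠ j → IsRelPrime (a i) (a j))
    (hμ : μ ≠ 0) (i₀ : Fin n) (J : Ideal (MvPolynomial {j : Fin n // j ≠ i₀} (MvPowerSeries (Fin n) k)))
    (hJ : J = relM a (fun i => MvPowerSeries.X i) μ i₀ p) :
    let B := MvPolynomial {j : Fin n // j ≠ i₀} (MvPowerSeries (Fin n) k) ⧸ J
    Module.Free (MvPowerSeries (Fin n) k) B ∧ Module.finrank (MvPowerSeries (Fin n) k) B = p ^ (n - 1) ∧ IsDomain B ∧
      IsIntegrallyClosed (Localization.Away (algebraMap (MvPowerSeries (Fin n) k) B (μ * a i₀))) := by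
  subst hJ
  intro B
  classical
  have hp : p.Prime := Fact.out
  let a' : Fin n → MvPowerSeries (Fin n) k := fun i => μ * a i
  have ham' : ∀ i, MvPowerSeries.constantCoeff (a' i) = 0 := fun i => by simp [a', ham]
  haveI : IsDomain (MvPowerSeries (Fin n) k) := NoZeroDivisors.to_isDomain _
  haveI : CharP (MvPowerSeries (Fin n) k) p := AS7.charP_power_series
  let A := MvPolynomial (Fin n) (MvPowerSeries (Fin n) k) ⧸ AS7.rel a' p
  haveI : IsDomain A := AS7.isDomain (a := a') hp.one_lt ham'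
  haveI := AS7.regular (a := a') hp.one_lt ham'
  haveI : UniqueFactorizationMonoid A := (RegUFD.ufd A).2
  haveI : IsIntegrallyClosed A := inferInstance
  let u : Fin n → A := fun i => Ideal.Quotient.mk _ (X i)
  obtain ⟨bB⟩ := exists_box_basis (fm a (fun i => MvPowerSeries.X i) μ i₀ p) (fun j => (fm_monic a _ μ i₀ j).1)
    (fun j => (fm_monic a _ μ i₀ j).2) hp.pos
  obtain ⟨hker, hfix⟩ := minors p k a μ i₀ hn ham hcop
  let ψ : B →ₐ[MvPowerSeries (Fin n) k] A := Ideal.Quotient.liftₐ _ (psi a u i₀) hker.ge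
  have hψ : Function.Injective ψ := by
    rw [injective_iff_map_eq_zero]
    intro c hc
    obtain ⟨q, rfl⟩ := Ideal.Quotient.mk_surjective c
    exact Ideal.Quotient.eq_zero_iff_mem.mpr (hker.le hc)
  have hB : IsDomain B := hψ.isDomain ψ.toRingHom
  have ha : a i₀ ≠ 0 := fun h0 => by
    obtain ⟨j, hj⟩ : ∃ j : Fin n, j ≠ i₀ := by
      haveI : Nontrivial (Fin n) := Fin.nontrivial_iff_two_le.mpr hn
      exact exists_ne i₀
    have h := hcop i₀ j (Ne.symm hj) (d := a j) (by rw [h0]; exact dvd_zero _) dvd_rfl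
    rw [MvPowerSeries.isUnit_iff_constantCoeff, ham] at h
    exact not_isUnit_zero h
  let σ : A ≃ₐ[MvPowerSeries (Fin n) k] A := AS7.trans a' (fun _ => 1)
  have hσ : ∀ i, σ (u i) = u i + algebraMap (MvPowerSeries (Fin n) k) A (μ * a i) := fun i => by
    refine (AS7.trans_u _ i).trans ?_
    simp [a', u, A]
  refine ⟨Module.Free.of_basis bB, ?_, hB, ?_⟩
  · refine (Module.finrank_eq_card_basis bB).trans ?_
    rw [card_box, Fintype.card_subtype_compl, Fintype.card_subtype_eq, Fintype.card_fin]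
  refine isIntegrallyClosed_away (A := A) (ψ : B →+* A) hψ (σ : A →+* A) (fun c => ?_) _ ?_ fun t ht => ?_
  · obtain ⟨q, rfl⟩ := Ideal.Quotient.mk_surjective c
    show (σ.toAlgHom.comp (psi a u i₀)) q = psi a u i₀ q
    congr 1
    refine MvPolynomial.algHom_ext fun j => ?_
    show σ (psi a u i₀ (X j)) = psi a u i₀ (X j)
    rw [psi, aeval_X, zm, map_sub, map_mul σ, map_mul σ, hσ, hσ, AlgEquiv.commutes, AlgEquiv.commutes, map_mul,
      map_mul]
    ring
  · intro h
    exact mul_ne_zero hμ ha (AS7.algebraMap_injective (a := a') (p := p)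
      (by rw [map_zero, ← AlgHom.commutes ψ, h, map_zero]))
  · obtain ⟨N, hN⟩ := hfix σ hμ hσ t ht
    obtain ⟨q, hq⟩ := (Algebra.adjoin_range_eq_range_aeval (S₁ := A) _ (zm a u i₀)).le hN
    exact ⟨N, Ideal.Quotient.mk _ q, hq.trans (by
      congr 2; exact (AlgHom.commutes ψ _).symm)⟩

end Groth.Agent.WildQuot7
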