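import Groth.Agent.WildQuot7.Orth
import Groth.Agent.AS7.Galois
import Groth.Agent.RegUFD.Basic

/-! Invariants of the orthogonal subgroup of the Artin–Schreier family over a power series ring. -/

set_option autoImplicit false
universe u

attribute [-instance] Ideal.Quotient.semiring

namespace Groth.Agent.WildQuot7

open MvPolynomial in
theorem orth
    (p : ℕ) [Fact p.Prime] (k : Type u) [Field k] [CharP k p] (n : ℕ) (hn : 2 ≤ n)
    (a : Fin n → MvPowerSeries (Fin n) k) (μ : MvPowerSeries (Fin n) k)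
    (ham : ∀ i, MvPowerSeries.constantCoeff (a i) = 0) (hcop : ∀ i j, i ≠ j → IsRelPrime (a i) (a j))
    (hμ : μ ≠ 0) (hμa : ∀ i, IsRelPrime μ (a i))
    (s : Fin n → ZMod p) (hs : s ≠ 0) :
    let R := MvPowerSeries (Fin n) k
    let I : Ideal (MvPolynomial (Fin n) R) := AS7.rel (fun i => μ * a i) p
    let A := MvPolynomial (Fin n) R ⧸ I
    let u : Fin n → A := fun i => Ideal.Quotient.mk I (X i)
    let c : Fin n → R := fun i => algebraMap k R (ZMod.castHom (dvd_refl p) k (s i))
    let α : R := ∏ i ∈ Finset.univ.filter (fun i => s i ≠ 0), a i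
    let αi : Fin n → R := fun i => ∏ j ∈ (Finset.univ.filter (fun j => s j ≠ 0)).erase i, a j
    let z : A := ∑ i ∈ Finset.univ.filter (fun i => s i ≠ 0), algebraMap R A (c i * αi i) * u i
    let f : Polynomial R := Polynomial.X ^ p - Polynomial.C ((μ * α) ^ (p - 1)) * Polynomial.X
      - Polynomial.C (∑ i ∈ Finset.univ.filter (fun i => s i ≠ 0), c i * αi i ^ p * MvPowerSeries.X i)
    ∀ σ : Fin n → (A ≃ₐ[R] A),
      (∀ i j, σ i (u j) = u j + (if i = j then algebraMap R A (μ * a i) else 0)) →
      (∀ t : A, (∀ ν : Fin n → ZMod p, ∑ i, ν i * s i = 0 →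
          (List.ofFn (fun i : Fin n => σ i ^ (ν i).val)).prod t = t) ↔
        t ∈ (Polynomial.aeval z : Polynomial R →ₐ[R] A).range) ∧
      RingHom.ker (Polynomial.aeval z : Polynomial R →ₐ[R] A) = Ideal.span {f} := by
  intro R I A u c α αi z f σ hσ
  classical
  have hp : p.Prime := Fact.out
  let a' : Fin n → MvPowerSeries (Fin n) k := fun i => μ * a i
  have ham' : ∀ i, MvPowerSeries.constantCoeff (a' i) = 0 := fun i => by simp [a', ham]
  haveI : IsDomain R := NoZeroDivisors.to_isDomain _
  haveI := PSLib.isRegularLocalRing k n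
  haveI : UniqueFactorizationMonoid R := (RegUFD.ufd R).2
  haveI : CharP R p := AS7.charP_power_series
  haveI : IsDomain A := AS7.isDomain (a := a') hp.one_lt ham'
  haveI : CharP A p := charP_of_injective_ringHom (AS7.algebraMap_injective (a := a') (p := p)) p
  obtain ⟨bA, hbA⟩ := AS7.exists_basis_family (a := a') hp.one_lt
  have hgen : Algebra.adjoin R (Set.range u) = ⊤ := by
    rw [show Set.range u = Ideal.Quotient.mkₐ R I '' Set.range MvPolynomial.X by
      rw [← Set.range_comp]; rfl, Algebra.adjoin_image, MvPolynomial.adjoin_range_X, Algebra.map_top,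
      AlgHom.range_eq_top]
    exact Ideal.Quotient.mk_surjective
  have hu : ∀ i, u i ^ p = algebraMap R A ((μ * a i) ^ (p - 1)) * u i + algebraMap R A (MvPowerSeries.X i) :=
    fun i => AS7.u_pow (a := a') i
  let S : Finset (Fin n) := Finset.univ.filter (fun i => s i ≠ 0)
  have hS : ∀ i ∈ S, s i ≠ 0 := fun i hi => (Finset.mem_filter.mp hi).2
  obtain ⟨i₀, hi₀⟩ : ∃ i, i ∈ S := by
    obtain ⟨i, hi⟩ := Function.ne_iff.mp hs
    exact ⟨i, Finset.mem_filter.mpr ⟨Finset.mem_univ _, hi⟩⟩
  have hcast : ∀ v : ZMod p, AS7.cast p n k v = algebraMap k R (ZMod.castHom (dvd_refl p) k v) := fun v => by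
    simp [AS7.cast, R, MvPowerSeries.algebraMap_apply]
  have hc : ∀ i, c i ^ p = c i := fun i => by
    show algebraMap k R _ ^ p = _
    rw [← map_pow, ← map_pow, ZMod.pow_card]
  have hunit : ∀ i ∈ S, IsUnit (c i) := fun i hi =>
    (isUnit_iff_ne_zero.mpr ((map_ne_zero _).mpr (hS i hi))).map (algebraMap k R)
  have ha : ∀ i, a i ≠ 0 := fun i h0 => by
    obtain ⟨j, hj⟩ : ∃ j : Fin n, j ≠ i := by
      haveI : Nontrivial (Fin n) := Fin.nontrivial_iff_two_le.mpr hn
      exact exists_ne i
    have h := hcop i j (Ne.symm hj) (d := a j) (by rw [h0]; exact dvd_zero _) dvd_rfl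
    rw [MvPowerSeries.isUnit_iff_constantCoeff, ham] at h
    exact not_isUnit_zero h
  have hσ' : ∀ i, σ i = AS7.trans a' (Pi.single i (1 : ZMod p)) := fun i => AlgEquiv.ext fun t =>
    DFunLike.congr_fun (AS7.algHom_ext (a := a') (f := (σ i).toAlgHom)
      (g := (AS7.trans a' (Pi.single i (1 : ZMod p))).toAlgHom) fun j => by
        show σ i (u j) = _
        refine (hσ i j).trans (Eq.trans ?_ (AS7.trans_u _ j).symm)
        rcases eq_or_ne i j with rfl | h
        · simp [a', u]; rfl
        · simp [if_neg h, Pi.single_eq_of_ne h.symm, a', u]; rfl) t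
  have hl : ∀ (ν : Fin n → ZMod p) (l : List (Fin n)), (l.map fun i => σ i ^ (ν i).val).prod =
      AS7.trans a' (l.map fun i => Pi.single (M := fun _ => ZMod p) i (ν i)).sum := fun ν l => by
    induction l with
    | nil => simp only [List.map_nil, List.prod_nil, List.sum_nil]; exact (AS7.trans_zero (a := a')).symm
    | cons i l ih =>
      simp only [List.map_cons, List.prod_cons, List.sum_cons]
      rw [ih, hσ', AS7.trans_pow, AS7.trans_mul]
      congr 2
      rw [← Pi.single_smul, nsmul_eq_mul, mul_one, ZMod.natCast_zmod_val]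
  have hprod : ∀ ν : Fin n → ZMod p, (List.ofFn (fun i : Fin n => σ i ^ (ν i).val)).prod = AS7.trans a' ν := fun ν => by
    rw [List.ofFn_eq_map, hl, ← List.ofFn_eq_map, List.sum_ofFn, Finset.univ_sum_single]
  have hz : ∀ ν : Fin n → ZMod p, ∑ i, ν i * s i = 0 → AS7.trans a' ν z = z := fun ν hν => by
    show AS7.trans a' ν (∑ i ∈ S, algebraMap R A (c i * αi i) * u i) = _
    rw [map_sum]
    have h : ∀ i ∈ S, AS7.trans a' ν (algebraMap R A (c i * αi i) * u i) =
        algebraMap R A (c i * αi i) * u i + algebraMap R A (μ * α * algebraMap k R (ZMod.castHom (dvd_refl p) k (ν i * s i))) := by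
      intro i hi
      rw [map_mul (AS7.trans a' ν), AlgEquiv.commutes, show AS7.trans a' ν (u i) = _ from AS7.trans_u ν i, mul_add, ← map_mul]
      congr 2
      rw [hcast, map_mul (ZMod.castHom (dvd_refl p) k), map_mul (algebraMap k R),
        show α = a i * αi i from (Finset.mul_prod_erase _ a hi).symm]
      show algebraMap k R _ * αi i * (algebraMap k R _ * (μ * a i)) = _
      ring
    rw [Finset.sum_congr rfl h, Finset.sum_add_distrib, ← map_sum, ← Finset.mul_sum, ← map_sum, ← map_sum,
      show ∑ i ∈ S, ν i * s i = ∑ i, ν i * s i from Finset.sum_filter_of_ne fun i _ hi => right_ne_zero_of_mul hi,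
      hν, map_zero, map_zero, mul_zero, map_zero, add_zero]
  let νo : Fin n → (Fin n → ZMod p) := fun j => Pi.single j 1 + Pi.single i₀ (-(s j) / s i₀)
  have hν : ∀ j, ∑ i, νo j i * s i = 0 := fun j => by
    simp only [νo, Pi.add_apply, add_mul, Finset.sum_add_distrib]
    rw [Finset.sum_eq_single j (fun i _ h => by simp [Pi.single_eq_of_ne h]) (by simp),
      Finset.sum_eq_single i₀ (fun i _ h => by simp [Pi.single_eq_of_ne h]) (by simp), Pi.single_eq_same,
      Pi.single_eq_same, one_mul, div_mul_cancel₀ _ (hS i₀ hi₀), add_neg_cancel]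
  refine ⟨fun t => ⟨fun ht => ?_, fun ht ν hν0 => ?_⟩, ?_⟩
  · refine WildQuot7.mem_range_of_fixed a MvPowerSeries.X c μ u S hc hu bA hbA hgen hunit hcop ha hμ hi₀
      (fun j => (AS7.trans a' (νo j)).toAlgHom) (fun j _ => hz _ (hν j)) (fun j l _ hl => ?_) t fun j _ => ?_
    · show AS7.trans a' (νo j) (u l) = _
      refine (AS7.trans_u _ l).trans (congrArg _ ?_)
      rcases eq_or_ne j l with rfl | h
      · simp [νo, Pi.single_eq_of_ne hl, a']; rfl
      · simp [νo, Pi.single_eq_of_ne hl, Pi.single_eq_of_ne h.symm, if_neg h, a']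
    · show AS7.trans a' (νo j) t = t
      rw [← hprod]; exact ht _ (hν j)
  · obtain ⟨g, rfl⟩ := ht
    rw [hprod]
    show AS7.trans a' ν (Polynomial.aeval z g) = Polynomial.aeval z g
    rw [← Polynomial.aeval_algHom_apply, hz ν hν0]
  · exact WildQuot7.ker_eq a MvPowerSeries.X c μ u S hc hu bA hbA hi₀
      (mul_ne_zero (hunit i₀ hi₀).ne_zero (Finset.prod_ne_zero_iff.mpr fun j _ => ha j))

end Groth.Agent.WildQuot7
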