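import Groth.Agent.AS7.Triangular
import Mathlib

/-!
# The subalgebra generated by the minors of an Artin–Schreier family
-/

set_option autoImplicit false
universe u

open MvPolynomial

namespace Groth.Agent.WildQuot7

/-- A linear map of free modules of equal finite rank with saturated image is injective. -/
theorem injective_of_saturated {R : Type*} [CommRing R] [IsDomain R] {M N : Type*} [AddCommGroup M] [Module R M]
    [AddCommGroup N] [Module R N] {κ : Type*} [Fintype κ] [DecidableEq κ] (bM : Module.Basis κ R M)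
    (bN : Module.Basis κ R N) (Φ : M →ₗ[R] N) (h : ∀ x, ∃ c : R, c ≠ 0 ∧ ∃ y, Φ y = c • x) :
    Function.Injective Φ := by
  choose c hc y hy using fun i => h (bN i)
  let P := LinearMap.toMatrix bM bN Φ
  let Q : Matrix κ κ R := Matrix.of fun j i => bM.repr (y i) j
  have hPQ : P * Q = Matrix.diagonal c := by
    refine Matrix.ext fun l i => ?_
    have h1 : (P * Q) l i = bN.repr (Φ (y i)) l := by
      rw [← LinearMap.toMatrix_mulVec_repr bM bN Φ (y i)]
      rfl
    rw [h1, hy, map_smul, Finsupp.smul_apply, Module.Basis.repr_self, Matrix.diagonal_apply]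
    by_cases hli : l = i
    · subst hli; simp
    · rw [if_neg hli, Finsupp.single_eq_of_ne hli]; simp
  have hdet : P.det ≠ 0 := fun h0 => by
    have := congrArg Matrix.det hPQ
    rw [Matrix.det_mul, h0, zero_mul, Matrix.det_diagonal] at this
    exact Finset.prod_ne_zero_iff.mpr (fun i _ => hc i) this.symm
  intro v w hvw
  refine bM.repr.injective (Finsupp.ext fun j => ?_)
  have h2 : P.mulVec (bM.repr v) = P.mulVec (bM.repr w) := by
    rw [LinearMap.toMatrix_mulVec_repr, LinearMap.toMatrix_mulVec_repr, hvw]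
  have h3 : P.mulVec ((bM.repr v : κ → R) - (bM.repr w : κ → R)) = 0 := by rw [Matrix.mulVec_sub, h2, sub_self]
  exact sub_eq_zero.mp (congrFun (Matrix.eq_zero_of_mulVec_eq_zero hdet h3) j)

theorem card_box (p m : ℕ) : Fintype.card (Fin m → Fin p) = p ^ m := by simp

/-- The monomial box is a basis also for an arbitrary finite index type. -/
theorem exists_box_basis {R : Type u} [CommRing R] [Nontrivial R] {p : ℕ} {σ : Type} [Fintype σ]
    (f : σ → Polynomial R) (hf : ∀ i, (f i).Monic) (hd : ∀ i, (f i).natDegree = p) (hp : 0 < p) :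
    Nonempty (Module.Basis (Fin (Fintype.card σ) → Fin p) R (MvPolynomial σ R ⧸
      Ideal.span (Set.range fun i => Polynomial.aeval (X i : MvPolynomial σ R) (f i)))) := by
  let e := Fintype.equivFin σ
  obtain ⟨b, -⟩ := AS7.exists_basis (fun i => f (e.symm i)) (fun i => hf _) (fun i => hd _) hp
  let E := MvPolynomial.renameEquiv R e
  have hmap : Ideal.span (Set.range fun i : Fin (Fintype.card σ) =>
      Polynomial.aeval (X i : MvPolynomial (Fin (Fintype.card σ)) R) (f (e.symm i))) =
      (Ideal.span (Set.range fun i => Polynomial.aeval (X i : MvPolynomial σ R) (f i))).map (E : MvPolynomial σ R →+* _) := by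
    rw [Ideal.map_span, ← Set.range_comp]
    congr 1
    have h : (⇑(E : MvPolynomial σ R →+* _) ∘ fun i => Polynomial.aeval (X i : MvPolynomial σ R) (f i)) =
        (fun i : Fin (Fintype.card σ) => Polynomial.aeval (X i : MvPolynomial (Fin (Fintype.card σ)) R) (f (e.symm i))) ∘ e := by
      funext i
      show E (Polynomial.aeval (X i : MvPolynomial σ R) (f i)) = _
      rw [← Polynomial.aeval_algHom_apply, Function.comp_apply, Equiv.symm_apply_apply]
      simp [E]
    rw [h, EquivLike.range_comp]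
  exact ⟨b.map (Ideal.quotientEquivAlg _ _ E hmap).symm.toLinearEquiv⟩

variable {R : Type u} [CommRing R] [IsDomain R] {p : ℕ} [Fact p.Prime] [CharP R p] {A : Type u} [CommRing A]
  [Algebra R A] {n : ℕ} (a x : Fin n → R) (μ : R) (u : Fin n → A) (i₀ : Fin n)

/-- The minors `z_j`. -/
noncomputable def zm (j : {j : Fin n // j ≠ i₀}) : A :=
  algebraMap R A (a i₀) * u j.1 - algebraMap R A (a j.1) * u i₀

/-- The equations of the minors. -/
noncomputable def fm (p : ℕ) (j : {j : Fin n // j ≠ i₀}) : Polynomial R :=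
  Polynomial.X ^ p - Polynomial.C ((μ * a i₀ * a j.1) ^ (p - 1)) * Polynomial.X
    - Polynomial.C (a i₀ ^ p * x j.1 - a j.1 ^ p * x i₀)

omit [IsDomain R] [Fact p.Prime] [CharP R p] in
theorem aeval_fm {S : Type u} [CommRing S] [Algebra R S] (j : {j : Fin n // j ≠ i₀}) (t : S) :
    Polynomial.aeval t (fm a x μ i₀ p j) = t ^ p - algebraMap R S ((μ * a i₀ * a j.1) ^ (p - 1)) * t
      - algebraMap R S (a i₀ ^ p * x j.1 - a j.1 ^ p * x i₀) := by
  simp [fm]

theorem fm_monic (j : {j : Fin n // j ≠ i₀}) : (fm a x μ i₀ p j).Monic ∧ (fm a x μ i₀ p j).natDegree = p := by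
  have hp : 1 < p := (Fact.out : p.Prime).one_lt
  have h : fm a x μ i₀ p j = Polynomial.X ^ p - (Polynomial.C ((μ * a i₀ * a j.1) ^ (p - 1)) * Polynomial.X
    + Polynomial.C (a i₀ ^ p * x j.1 - a j.1 ^ p * x i₀)) := sub_sub _ _ _
  have hdeg : (Polynomial.C ((μ * a i₀ * a j.1) ^ (p - 1)) * Polynomial.X
      + Polynomial.C (a i₀ ^ p * x j.1 - a j.1 ^ p * x i₀)).degree < (p : WithBot ℕ) :=
    lt_of_le_of_lt Polynomial.degree_linear_le (by exact_mod_cast hp)
  rw [h]
  refine ⟨Polynomial.monic_X_pow_sub hdeg, Polynomial.natDegree_eq_of_degree_eq_some ?_⟩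
  rw [Polynomial.degree_sub_eq_left_of_degree_lt (by rwa [Polynomial.degree_X_pow]), Polynomial.degree_X_pow]

variable (hu : ∀ i, u i ^ p = algebraMap R A ((μ * a i) ^ (p - 1)) * u i + algebraMap R A (x i))
  (hgen : Algebra.adjoin R (Set.range u) = ⊤) (bA : Module.Basis (Fin n → Fin p) R A) (ha : a i₀ ≠ 0)

include hu bA in
theorem zm_pow (j : {j : Fin n // j ≠ i₀}) : Polynomial.aeval (zm a u i₀ j) (fm a x μ i₀ p j) = 0 := by
  have hp : p.Prime := Fact.out
  haveI : Nonempty (Fin n → Fin p) := ⟨fun _ => ⟨0, hp.pos⟩⟩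
  haveI : CharP A p := charP_of_injective_algebraMap (R := R) (A := A) (fun r s h => by
    have e := Classical.arbitrary (Fin n → Fin p)
    have h1 : r • bA e = s • bA e := by rw [Algebra.smul_def, Algebra.smul_def, h]
    simpa [Module.Basis.repr_self, Finsupp.single_eq_same] using congrArg (fun w => bA.repr w e) h1) p
  obtain ⟨q, hq⟩ : ∃ q, p = q + 1 := ⟨p - 1, by have := hp.pos; omega⟩
  rw [aeval_fm, zm, sub_pow_char, mul_pow, mul_pow, hu, hu]
  simp only [map_sub, map_mul, map_pow, mul_pow]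
  rw [show p - 1 = q by omega, hq, pow_succ, pow_succ]
  ring

/-- Presentation map of the minor subalgebra. -/
noncomputable def psi : MvPolynomial {j : Fin n // j ≠ i₀} R →ₐ[R] A := aeval (zm a u i₀)

/-- The ideal of the minor equations. -/
noncomputable def relM (p : ℕ) : Ideal (MvPolynomial {j : Fin n // j ≠ i₀} R) :=
  Ideal.span (Set.range fun j => Polynomial.aeval (X j : MvPolynomial {j : Fin n // j ≠ i₀} R) (fm a x μ i₀ p j))

include hu bA in
theorem relM_le : relM a x μ i₀ p ≤ RingHom.ker (psi a u i₀) := by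
  refine Ideal.span_le.mpr ?_
  rintro _ ⟨j, rfl⟩
  show psi a u i₀ _ = 0
  rw [← Polynomial.aeval_algHom_apply, psi, aeval_X]
  exact zm_pow a x μ u i₀ hu bA j

include hu hgen bA ha in
/-- The minors generate a subalgebra over which `u i₀` is free of rank `p` up to `a i₀`-torsion. -/
theorem main : RingHom.ker (psi a u i₀) = relM a x μ i₀ p ∧
    (∀ s : A ≃ₐ[R] A, μ ≠ 0 → (∀ i, s (u i) = u i + algebraMap R A (μ * a i)) → ∀ t : A, s t = t →
      ∃ N : ℕ, algebraMap R A (μ * a i₀) ^ N * t ∈ Algebra.adjoin R (Set.range (zm a u i₀))) := by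
  classical
  have hp : p.Prime := Fact.out
  have hle := relM_le a x μ u i₀ hu bA
  let B := MvPolynomial {j : Fin n // j ≠ i₀} R ⧸ relM a x μ i₀ p
  let ψ : B →ₐ[R] A := Ideal.Quotient.liftₐ _ (psi a u i₀) hle
  obtain ⟨bB⟩ : Nonempty (Module.Basis (Fin (Fintype.card {j : Fin n // j ≠ i₀}) → Fin p) R B) := exists_box_basis (fm a x μ i₀ p) (fun j => (fm_monic a x μ i₀ j).1) (fun j => (fm_monic a x μ i₀ j).2) hp.pos
  let Φ : (Fin p → B) →ₗ[R] A := ∑ m : Fin p,
    ((LinearMap.mulRight R (u i₀ ^ (m : ℕ))).comp ψ.toLinearMap).comp (LinearMap.proj m)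
  have hΦ : ∀ b : Fin p → B, Φ b = ∑ m : Fin p, ψ (b m) * u i₀ ^ (m : ℕ) := fun b => by simp [Φ]
  have hΦs : ∀ (m : Fin p) (c : B), Φ (Pi.single m c) = ψ c * u i₀ ^ (m : ℕ) := fun m c => by
    rw [hΦ, Finset.sum_eq_single m (fun i _ hi => by simp [hi]) (by simp), Pi.single_eq_same]
  have hψ : ∀ (c : B) (t : A), t ∈ LinearMap.range Φ → ψ c * t ∈ LinearMap.range Φ := by
    rintro c _ ⟨b, rfl⟩
    refine ⟨fun m => c * b m, ?_⟩
    simp [hΦ, Finset.mul_sum, mul_assoc]
  have hu0 : ∀ t : A, t ∈ LinearMap.range Φ → u i₀ * t ∈ LinearMap.range Φ := by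
    rintro _ ⟨b, rfl⟩
    rw [hΦ, Finset.mul_sum]
    refine Submodule.sum_mem _ fun m _ => ?_
    rw [← mul_assoc, mul_comm (u i₀), mul_assoc, ← pow_succ']
    refine hψ _ _ ?_
    rcases (show (m : ℕ) + 1 < p ∨ (m : ℕ) + 1 = p by omega) with h | h
    · exact ⟨Pi.single ⟨m + 1, h⟩ 1, by rw [hΦs, map_one, one_mul]⟩
    · rw [h, hu]
      refine ⟨Pi.single ⟨1, hp.one_lt⟩ (algebraMap R B ((μ * a i₀) ^ (p - 1))) +
        Pi.single ⟨0, hp.pos⟩ (algebraMap R B (x i₀)), ?_⟩
      rw [map_add, hΦs, hΦs, AlgHom.commutes, AlgHom.commutes, pow_one, pow_zero, mul_one]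
  let T : Subalgebra R A := Algebra.adjoin R (Set.range (zm a u i₀) ∪ {u i₀})
  have hT : ∀ t ∈ T, ∀ t' ∈ LinearMap.range Φ, t * t' ∈ LinearMap.range Φ := by
    intro t ht
    induction ht using Algebra.adjoin_induction with
    | mem t ht =>
      rcases ht with ⟨j, rfl⟩ | rfl
      · exact fun t' => (by
          have : ψ (Ideal.Quotient.mk _ (X j)) = zm a u i₀ j := aeval_X _ _
          rw [← this]; exact hψ _ t')
      · exact hu0
    | algebraMap r => intro t' ht'; rw [← Algebra.smul_def]; exact Submodule.smul_mem _ r ht'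
    | add t t' _ _ h h' => intro t'' ht''; rw [add_mul]; exact Submodule.add_mem _ (h _ ht'') (h' _ ht'')
    | mul t t' _ _ h h' => intro t'' ht''; rw [mul_assoc]; exact h _ (h' _ ht'')
  have hsat : ∀ t : A, ∃ N : ℕ, algebraMap R A (a i₀) ^ N * t ∈ T := by
    intro t
    have ht : t ∈ Algebra.adjoin R (Set.range u) := hgen ▸ Algebra.mem_top
    induction ht using Algebra.adjoin_induction with
    | mem t ht =>
      obtain ⟨j, rfl⟩ := ht
      rcases eq_or_ne j i₀ with rfl | hj
      · refine ⟨0, ?_⟩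
        rw [pow_zero, one_mul]
        exact Algebra.subset_adjoin (Or.inr rfl)
      · refine ⟨1, ?_⟩
        rw [pow_one, show algebraMap R A (a i₀) * u j =
          zm a u i₀ ⟨j, hj⟩ + algebraMap R A (a j) * u i₀ by rw [zm]; ring]
        exact add_mem (Algebra.subset_adjoin (Or.inl ⟨_, rfl⟩))
          (mul_mem (Subalgebra.algebraMap_mem _ _) (Algebra.subset_adjoin (Or.inr rfl)))
    | algebraMap r => exact ⟨0, by simpa using Subalgebra.algebraMap_mem T r⟩
    | add t t' _ _ h h' =>
      obtain ⟨N, hN⟩ := h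
      obtain ⟨N', hN'⟩ := h'
      refine ⟨N + N', ?_⟩
      rw [show algebraMap R A (a i₀) ^ (N + N') * (t + t') = algebraMap R A (a i₀) ^ N' * (algebraMap R A (a i₀) ^ N * t) +
        algebraMap R A (a i₀) ^ N * (algebraMap R A (a i₀) ^ N' * t') by ring]
      exact add_mem (mul_mem (pow_mem (Subalgebra.algebraMap_mem _ _) _) hN)
        (mul_mem (pow_mem (Subalgebra.algebraMap_mem _ _) _) hN')
    | mul t t' _ _ h h' =>
      obtain ⟨N, hN⟩ := h
      obtain ⟨N', hN'⟩ := h'
      refine ⟨N + N', ?_⟩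
      rw [show algebraMap R A (a i₀) ^ (N + N') * (t * t') = (algebraMap R A (a i₀) ^ N * t) *
        (algebraMap R A (a i₀) ^ N' * t') by ring]
      exact mul_mem hN hN'
  have hone : (1 : A) ∈ LinearMap.range Φ := ⟨Pi.single ⟨0, hp.pos⟩ 1, by rw [hΦs, map_one, pow_zero, one_mul]⟩
  have hrange : ∀ t : A, ∃ (N : ℕ) (b : Fin p → B), Φ b = (a i₀ ^ N) • t := fun t => by
    obtain ⟨N, hN⟩ := hsat t
    obtain ⟨b, hb⟩ := hT _ hN 1 hone
    exact ⟨N, b, by rw [hb, mul_one, Algebra.smul_def, map_pow]⟩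
  let bM := (Pi.basis fun _ : Fin p => bB).reindex (Equiv.sigmaEquivProd _ _)
  have hcard : Fintype.card (Fin n → Fin p) =
      Fintype.card (Fin p × (Fin (Fintype.card {j : Fin n // j ≠ i₀}) → Fin p)) := by
    rw [Fintype.card_prod, card_box, card_box, Fintype.card_fin, ← pow_succ', Fintype.card_subtype_compl,
      Fintype.card_subtype_eq, Fintype.card_fin]
    congr 1
    have := i₀.pos
    omega
  have hinj : Function.Injective Φ := injective_of_saturated bM (bA.reindex (Fintype.equivOfCardEq hcard)) Φ fun t => by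
    obtain ⟨N, b, hb⟩ := hrange t
    exact ⟨a i₀ ^ N, pow_ne_zero _ ha, b, hb⟩
  constructor
  · refine le_antisymm (fun q hq => ?_) hle
    rw [← Ideal.Quotient.eq_zero_iff_mem]
    have h1 : Φ (Pi.single ⟨0, hp.pos⟩ (Ideal.Quotient.mk _ q)) = Φ 0 := by
      rw [hΦs, map_zero, pow_zero, mul_one]
      exact hq
    simpa using congrFun (hinj h1) ⟨0, hp.pos⟩
  · intro s hμ hs t ht
    obtain ⟨N, b, hb⟩ := hrange t
    have hsz : ∀ c : B, s (ψ c) = ψ c := by
      intro c
      obtain ⟨q, rfl⟩ := Ideal.Quotient.mk_surjective c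
      show (s.toAlgHom.comp (psi a u i₀)) q = psi a u i₀ q
      congr 1
      refine MvPolynomial.algHom_ext fun j => ?_
      show s (psi a u i₀ (X j)) = psi a u i₀ (X j)
      rw [psi, aeval_X, zm, map_sub, map_mul, map_mul, hs, hs, AlgEquiv.commutes, AlgEquiv.commutes, map_mul, map_mul]
      ring
    let γ := μ * a i₀
    -- comparing coefficients of powers of `u i₀`
    have hzero : ∀ m : Fin p, (m : ℕ) ≠ 0 → b m = 0 := by
      by_contra! hne
      obtain ⟨m₁, hm₁, hb₁⟩ := hne
      obtain ⟨M, hM, hmax⟩ := Finset.exists_max_image (Finset.univ.filter fun m : Fin p => b m ≠ 0) (fun m => (m : ℕ))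
        ⟨m₁, by simp [hb₁]⟩
      simp only [Finset.mem_filter, Finset.mem_univ, true_and] at hM hmax
      have hM0 : (M : ℕ) ≠ 0 := fun h => hm₁ (by have := hmax m₁ hb₁; omega)
      let d : Fin p → B := fun l => ∑ m ∈ Finset.univ.filter (fun m : Fin p => (l : ℕ) < m),
        ((m : ℕ).choose l : B) * algebraMap R B (γ ^ ((m : ℕ) - l)) * b m
      have hd : Φ d = s (Φ b) - Φ b := by
        have e1 : s (Φ b) = ∑ m : Fin p, ψ (b m) * (u i₀ + algebraMap R A γ) ^ (m : ℕ) := by
          rw [hΦ, map_sum]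
          refine Finset.sum_congr rfl fun m _ => ?_
          rw [map_mul, map_pow, hsz, hs]
        rw [e1, hΦ, hΦ, ← Finset.sum_sub_distrib]
        simp only [d, map_sum, Finset.sum_filter, apply_ite ψ, map_zero, ite_mul, zero_mul, Finset.sum_mul]
        rw [Finset.sum_comm]
        refine Finset.sum_congr rfl fun m _ => ?_
        rw [add_pow, Finset.sum_range_succ, Nat.sub_self, pow_zero, mul_one, Nat.choose_self, Nat.cast_one, mul_one,
          mul_add, add_sub_cancel_right, Finset.mul_sum]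
        rw [← Fin.sum_univ_eq_sum_range (fun l => ψ (b m) * (u i₀ ^ l * algebraMap R A γ ^ ((m : ℕ) - l) * ((m : ℕ).choose l : A))) (m : ℕ)]
        rw [← Finset.sum_filter]
        refine Finset.sum_bij' (fun l hl => (⟨l, (Finset.mem_filter.mp hl).2⟩ : Fin (m : ℕ)))
          (fun l _ => (⟨l, l.2.trans m.2⟩ : Fin p)) (fun _ _ => Finset.mem_univ _)
          (fun l _ => Finset.mem_filter.mpr ⟨Finset.mem_univ _, l.2⟩) (fun _ _ => rfl) (fun _ _ => rfl) fun l _ => ?_
        simp only [map_mul, map_pow, AlgHom.commutes, show ∀ c : ℕ, ψ (c : B) = (c : A) from fun c => map_natCast ψ.toRingHom c]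
        ring
      have hd0 : d = 0 := hinj (by
        rw [map_zero, hd, hb, map_smul, ht, sub_self])
      let l : Fin p := ⟨(M : ℕ) - 1, by omega⟩
      have hl : d l = ((M : ℕ) : B) * algebraMap R B γ * b M := by
        show ∑ m ∈ _, _ = _
        rw [Finset.sum_eq_single M (fun m hm hmM => ?_) (fun h => ?_)]
        · rw [show (l : ℕ) = (M : ℕ) - 1 from rfl, show (M : ℕ) - ((M : ℕ) - 1) = 1 by omega, pow_one,
            ← Nat.choose_symm (Nat.sub_le _ _), show (M : ℕ) - ((M : ℕ) - 1) = 1 by omega, Nat.choose_one_right]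
        · have h1 : b m = 0 := by
            by_contra hbm
            have h2 := hmax m hbm
            have h3 := (Finset.mem_filter.mp hm).2
            simp only [l] at h3
            exact hmM (Fin.ext (by omega))
          rw [h1, mul_zero]
        · exact absurd (Finset.mem_filter.mpr ⟨Finset.mem_univ M, show (M : ℕ) - 1 < M by omega⟩) h
      have h2 : ((M : ℕ) : R) * γ = 0 ∨ b M = 0 := by
        have h3 : (((M : ℕ) : R) * γ) • b M = 0 := by
          refine (Algebra.smul_def (A := B) _ _).trans ?_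
          rw [map_mul, map_natCast, ← hl, hd0]; rfl
        by_contra! hcon
        refine hcon.2 (bB.repr.injective (Finsupp.ext fun e => ?_))
        have := congrArg (fun w => bB.repr w e) h3
        simp only [map_smul, Finsupp.smul_apply, map_zero, Finsupp.zero_apply, smul_eq_mul] at this
        rw [map_zero, Finsupp.zero_apply]
        exact (mul_eq_zero.mp this).resolve_left hcon.1
      rcases h2 with h2 | h2
      · rcases mul_eq_zero.mp h2 with h2 | h2
        · rw [CharP.cast_eq_zero_iff R p] at h2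
          exact absurd (Nat.le_of_dvd (Nat.pos_of_ne_zero hM0) h2) (not_le.mpr M.2)
        · exact mul_ne_zero hμ ha h2
      · exact hM h2
    refine ⟨N, ?_⟩
    have h4 : algebraMap R A (a i₀) ^ N * t = ψ (b ⟨0, hp.pos⟩) := by
      rw [← map_pow, ← Algebra.smul_def, ← hb, hΦ, Finset.sum_eq_single ⟨0, hp.pos⟩ (fun m _ hm => ?_) (by simp)]
      · simp
      · rw [hzero m (fun h => hm (Fin.ext h)), map_zero, zero_mul]
    rw [map_mul, mul_pow, mul_assoc, h4]
    refine mul_mem (pow_mem (Subalgebra.algebraMap_mem _ _) _) ?_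
    obtain ⟨q, hq⟩ := Ideal.Quotient.mk_surjective (b ⟨0, hp.pos⟩)
    rw [← hq, Algebra.adjoin_range_eq_range_aeval]
    exact ⟨q, rfl⟩

end Groth.Agent.WildQuot7
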