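import Mathlib

/-!
# Invariants of the subgroup orthogonal to a character of an Artin–Schreier family
-/

set_option autoImplicit false
universe u

namespace Groth.Agent.WildQuot7

/-- A translation invariant polynomial expression is constant. -/
theorem eq_zero_of_shift {A : Type u} [CommRing A] [IsDomain A] {p : ℕ} [Fact p.Prime] [CharP A p]
    (s : A →+* A) (v γ : A) (hγ : γ ≠ 0) (hv : s v = v + γ) (hsγ : s γ = γ) :
    ∀ (M : ℕ) (b : ℕ → A), M < p → (∀ l ≤ M, s (b l) = b l) →
      ∑ l ∈ Finset.range (M + 1), b l * v ^ l = 0 → ∀ l ≤ M, b l = 0 := by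
  intro M
  induction M with
  | zero =>
    intro b _ _ h l hl
    obtain rfl : l = 0 := Nat.le_zero.mp hl
    simpa using h
  | succ M ih =>
    intro b hM hs h
    let d : ℕ → A := fun l => ∑ m ∈ Finset.Ioc l (M + 1), b m * (m.choose l : A) * γ ^ (m - l)
    have hd : ∑ l ∈ Finset.range (M + 1), d l * v ^ l = 0 := by
      have h1 : ∑ m ∈ Finset.range (M + 1 + 1), b m * (v + γ) ^ m = 0 := by
        have := congrArg s h
        rw [map_sum, map_zero] at this
        rw [← this]
        refine Finset.sum_congr rfl fun m hm => ?_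
        rw [map_mul, map_pow, hs m (Nat.lt_succ_iff.mp (Finset.mem_range.mp hm)), hv]
      have h2 : ∀ m : ℕ, b m * (v + γ) ^ m - b m * v ^ m =
          ∑ l ∈ Finset.range m, b m * (m.choose l : A) * γ ^ (m - l) * v ^ l := fun m => by
        rw [add_pow, Finset.sum_range_succ, Nat.sub_self, Nat.choose_self, pow_zero, Nat.cast_one, mul_one, mul_one,
          mul_add, add_sub_cancel_right, Finset.mul_sum]
        exact Finset.sum_congr rfl fun l _ => by ring
      calc ∑ l ∈ Finset.range (M + 1), d l * v ^ l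
          = ∑ m ∈ Finset.range (M + 1 + 1), ∑ l ∈ Finset.range m, b m * (m.choose l : A) * γ ^ (m - l) * v ^ l := by
            simp only [d, Finset.sum_mul]
            refine Finset.sum_comm' fun l m => ?_
            simp only [Finset.mem_range, Finset.mem_Ioc]
            omega
        _ = 0 := by
            rw [← Finset.sum_congr rfl fun m _ => h2 m, Finset.sum_sub_distrib, h1, h, sub_zero]
    have hsd : ∀ l ≤ M, s (d l) = d l := fun l _ => by
      simp only [d, map_sum, map_mul, map_pow, map_natCast, hsγ]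
      refine Finset.sum_congr rfl fun m hm => ?_
      rw [hs m (Finset.mem_Ioc.mp hm).2]
    have hdM := ih d (by omega) hsd hd M le_rfl
    have hb : b (M + 1) = 0 := by
      simp only [d] at hdM
      rw [show Finset.Ioc M (M + 1) = {M + 1} by ext; simp only [Finset.mem_Ioc, Finset.mem_singleton]; omega, Finset.sum_singleton, Nat.choose_succ_self_right,
        show M + 1 - M = 1 by omega, pow_one] at hdM
      rcases mul_eq_zero.mp hdM with h' | h'
      · rcases mul_eq_zero.mp h' with h' | h'
        · exact h'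
        · rw [CharP.cast_eq_zero_iff A p] at h'
          exact absurd (Nat.le_of_dvd (Nat.succ_pos _) h') (not_le.mpr hM)
      · exact absurd h' hγ
    rw [Finset.sum_range_succ, hb, zero_mul, add_zero] at h
    intro l hl
    rcases Nat.lt_or_eq_of_le hl with hl | rfl
    · exact ih b (by omega) (fun l hl => hs l (by omega)) h l (by omega)
    · exact hb

/-- An invariant element of `C + C v + ⋯ + C v^(p-1)` lies in `C`. -/
theorem eq_head_of_shift {A : Type u} [CommRing A] [IsDomain A] {p : ℕ} [Fact p.Prime] [CharP A p]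
    (s : A →+* A) (v γ : A) (hγ : γ ≠ 0) (hv : s v = v + γ) (hsγ : s γ = γ) (b : ℕ → A)
    (hsb : ∀ l < p, s (b l) = b l) (t : A) (ht : t = ∑ l ∈ Finset.range p, b l * v ^ l) (hst : s t = t) :
    t = b 0 := by
  have hp : p.Prime := Fact.out
  obtain ⟨q, hq⟩ : ∃ q, p = q + 1 + 1 := ⟨p - 2, by have := hp.two_le; omega⟩
  let d : ℕ → A := fun l => ∑ m ∈ Finset.Ioc l (q + 1), b m * (m.choose l : A) * γ ^ (m - l)
  have h1 : ∑ l ∈ Finset.range (q + 1), d l * v ^ l = 0 := by
    calc ∑ l ∈ Finset.range (q + 1), d l * v ^ l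
        = ∑ m ∈ Finset.range p, ∑ l ∈ Finset.range m, b m * (m.choose l : A) * γ ^ (m - l) * v ^ l := by
          simp only [d, Finset.sum_mul]
          refine Finset.sum_comm' fun l m => ?_
          simp only [Finset.mem_range, Finset.mem_Ioc]
          omega
      _ = ∑ m ∈ Finset.range p, (s (b m * v ^ m) - b m * v ^ m) := by
          refine Finset.sum_congr rfl fun m hm => ?_
          rw [map_mul, map_pow, hsb m (Finset.mem_range.mp hm), hv, add_pow, Finset.sum_range_succ, Nat.sub_self,
            Nat.choose_self, pow_zero, Nat.cast_one, mul_one, mul_one, mul_add, add_sub_cancel_right, Finset.mul_sum]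
          exact Finset.sum_congr rfl fun l _ => by ring
      _ = 0 := by rw [Finset.sum_sub_distrib, ← map_sum, ← ht, hst, sub_self]
  have hd := eq_zero_of_shift (p := p) s v γ hγ hv hsγ q d (by omega) (fun l _ => by
    simp only [d, map_sum, map_mul, map_pow, map_natCast, hsγ]
    exact Finset.sum_congr rfl fun m hm => by rw [hsb m (by have := (Finset.mem_Ioc.mp hm).2; omega)]) h1
  -- descending induction on the coefficients
  have hb : ∀ j m, q + 1 = m + j → 1 ≤ m → b m = 0 := by
    intro j
    induction j using Nat.strong_induction_on with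
    | _ j ih =>
      intro m hm hm1
      have h2 := hd (m - 1) (by omega)
      simp only [d] at h2
      rw [Finset.sum_eq_single m (fun m' hm' hne => by
        have := Finset.mem_Ioc.mp hm'
        rw [ih (q + 1 - m') (by omega) m' (by omega) (by omega), zero_mul, zero_mul])
        (fun h => absurd (Finset.mem_Ioc.mpr ⟨by omega, by omega⟩) h)] at h2
      rw [← Nat.choose_symm (Nat.sub_le _ _), show m - (m - 1) = 1 by omega, Nat.choose_one_right, pow_one] at h2
      rcases mul_eq_zero.mp h2 with h' | h'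
      · rcases mul_eq_zero.mp h' with h' | h'
        · exact h'
        · rw [CharP.cast_eq_zero_iff A p] at h'
          exact absurd (Nat.le_of_dvd (by omega) h') (by omega)
      · exact absurd h' hγ
  rw [ht, Finset.sum_eq_single 0 (fun m hm h0 => by
    rw [hb (q + 1 - m) m (by have := Finset.mem_range.mp hm; omega) (by omega), zero_mul]) (by simp [hp.pos])]
  simp

variable {R : Type u} [CommRing R] {p n : ℕ} [Fact p.Prime] {A : Type u} [CommRing A] [Algebra R A]
  (a x c : Fin n → R) (μ : R) (u : Fin n → A) (S : Finset (Fin n))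

/-- `α_i`, the product of the `a j` for `j ≠ i` in the support. -/
def coA (i : Fin n) : R := ∏ j ∈ S.erase i, a j

/-- The orthogonal coordinate. -/
def zo : A := ∑ i ∈ S, algebraMap R A (c i * coA a S i) * u i

/-- Its equation. -/
noncomputable def fo (p : ℕ) : Polynomial R :=
  Polynomial.X ^ p - Polynomial.C ((μ * ∏ i ∈ S, a i) ^ (p - 1)) * Polynomial.X
    - Polynomial.C (∑ i ∈ S, c i * coA a S i ^ p * x i)

theorem fo_monic [Nontrivial R] : (fo a x c μ S p).Monic ∧ (fo a x c μ S p).natDegree = p := by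
  have hp : 1 < p := (Fact.out : p.Prime).one_lt
  have h : fo a x c μ S p = Polynomial.X ^ p - (Polynomial.C ((μ * ∏ i ∈ S, a i) ^ (p - 1)) * Polynomial.X
    + Polynomial.C (∑ i ∈ S, c i * coA a S i ^ p * x i)) := sub_sub _ _ _
  have hdeg : (Polynomial.C ((μ * ∏ i ∈ S, a i) ^ (p - 1)) * Polynomial.X
      + Polynomial.C (∑ i ∈ S, c i * coA a S i ^ p * x i)).degree < (p : WithBot ℕ) :=
    lt_of_le_of_lt Polynomial.degree_linear_le (by exact_mod_cast hp)
  rw [h]
  refine ⟨Polynomial.monic_X_pow_sub hdeg, Polynomial.natDegree_eq_of_degree_eq_some ?_⟩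
  rw [Polynomial.degree_sub_eq_left_of_degree_lt (by rwa [Polynomial.degree_X_pow]), Polynomial.degree_X_pow]

variable (hc : ∀ i, c i ^ p = c i)
  (hu : ∀ i, u i ^ p = algebraMap R A ((μ * a i) ^ (p - 1)) * u i + algebraMap R A (x i))

include hc hu in
theorem aeval_fo [CharP A p] : Polynomial.aeval (zo a c u S) (fo a x c μ S p) = 0 := by
  have h : zo a c u S ^ p = algebraMap R A ((μ * ∏ i ∈ S, a i) ^ (p - 1)) * zo a c u S
      + algebraMap R A (∑ i ∈ S, c i * coA a S i ^ p * x i) := by
    rw [zo, sum_pow_char, Finset.mul_sum, map_sum, ← Finset.sum_add_distrib]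
    refine Finset.sum_congr rfl fun i hi => ?_
    obtain ⟨q, hq⟩ : ∃ q, p = q + 1 := ⟨p - 1, by have := (Fact.out : p.Prime).pos; omega⟩
    rw [mul_pow, ← map_pow, mul_pow, hc, hu, mul_add, ← mul_assoc, ← map_mul, ← map_mul, ← mul_assoc, ← map_mul]
    congr 2
    rw [← Finset.mul_prod_erase S a hi, ← coA, show p - 1 = q by omega, hq, pow_succ]
    ring
  simp only [fo, map_sub, map_mul, map_pow, Polynomial.aeval_X, Polynomial.aeval_C]
  rw [h]; simp only [map_pow, map_mul, mul_pow]; ring

/-- Evaluation at the orthogonal coordinate of polynomials of degree `< p`. -/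
noncomputable def Φo (p : ℕ) (b : Fin p → R) : A := ∑ m : Fin p, algebraMap R A (b m) * zo a c u S ^ (m : ℕ)

variable (bA : Module.Basis (Fin n → Fin p) R A) (hbA : ∀ e, bA e = ∏ i, u i ^ (e i : ℕ))

include hbA in
theorem pow_mul_basis (i : Fin n) (e : Fin n → Fin p) (he : (e i : ℕ) = 0) (m : Fin p) :
    u i ^ (m : ℕ) * bA e = bA (Function.update e i m) := by
  classical
  rw [hbA, hbA, ← Finset.mul_prod_erase _ _ (Finset.mem_univ i), ← Finset.mul_prod_erase _ (fun j => u j ^ ((Function.update e i m j : Fin p) : ℕ))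
    (Finset.mem_univ i), he, pow_zero, one_mul, Function.update_self]
  congr 1
  refine Finset.prod_congr rfl fun j hj => ?_
  rw [Function.update_of_ne (Finset.ne_of_mem_erase hj)]

include hu hbA in
theorem adjoin_others (i₀ : Fin n) (w : A) (hw : w ∈ Algebra.adjoin R (u '' {i | i ≠ i₀})) :
    w ∈ Submodule.span R (bA '' {e | (e i₀ : ℕ) = 0}) := by
  classical
  have hp : p.Prime := Fact.out
  set S₀ := Submodule.span R (bA '' {e | (e i₀ : ℕ) = 0})
  have hmul : ∀ j ≠ i₀, ∀ y ∈ S₀, u j * y ∈ S₀ := by
    intro j hj y hy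
    induction hy using Submodule.span_induction with
    | zero => rw [mul_zero]; exact zero_mem _
    | add y y' _ _ h h' => rw [mul_add]; exact add_mem h h'
    | smul r y _ h => rw [mul_smul_comm]; exact Submodule.smul_mem _ r h
    | mem y hy =>
      obtain ⟨e, he, rfl⟩ := hy
      let e' := Function.update e j ⟨0, hp.pos⟩
      have he' : bA e = u j ^ (e j : ℕ) * bA e' := by
        rw [pow_mul_basis u bA hbA j e' (by simp [e']) (e j)]
        simp [e']
      have hmem : ∀ m : Fin p, u j ^ (m : ℕ) * bA e' ∈ S₀ := fun m => by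
        rw [pow_mul_basis u bA hbA j e' (by simp [e']) m]
        exact Submodule.subset_span ⟨_, by simp [e', Function.update_of_ne (Ne.symm hj)]; exact Fin.val_eq_zero_iff.mp he, rfl⟩
      rw [he', ← mul_assoc, ← pow_succ']
      rcases (show (e j : ℕ) + 1 < p ∨ (e j : ℕ) + 1 = p by omega) with h | h
      · exact hmem ⟨_, h⟩
      · rw [h, hu, add_mul, mul_assoc, ← Algebra.smul_def, ← Algebra.smul_def]
        refine add_mem (Submodule.smul_mem _ _ ?_) (Submodule.smul_mem _ _ ?_)
        · simpa using hmem ⟨1, hp.one_lt⟩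
        · simpa using hmem ⟨0, hp.pos⟩
  have hone : (1 : A) ∈ Submodule.span R (bA '' {e | (e i₀ : ℕ) = 0}) := by
    refine Submodule.subset_span ?_
    exact ⟨(fun _ => ⟨0, hp.pos⟩ : Fin n → Fin p), rfl, by simp [hbA]⟩
  suffices H : ∀ y ∈ S₀, w * y ∈ S₀ by simpa using H 1 hone
  induction hw using Algebra.adjoin_induction with
  | mem w hw => obtain ⟨j, hj, rfl⟩ := hw; exact hmul j hj
  | algebraMap r => intro y hy; rw [← Algebra.smul_def]; exact Submodule.smul_mem _ r hy
  | add w w' _ _ h h' => intro y hy; rw [add_mul]; exact add_mem (h y hy) (h' y hy)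
  | mul w w' _ _ h h' => intro y hy; rw [mul_assoc]; exact h _ (h' y hy)

include hu hbA in
/-- The powers of the orthogonal coordinate stay independent modulo a prime missing one coefficient. -/
theorem mem_of_Φo_mem {i₀ : Fin n} (hi₀ : i₀ ∈ S) (P : Ideal R) [P.IsPrime] (hd : c i₀ * coA a S i₀ ∉ P)
    (b : Fin p → R) (hb : Φo a c u S p b ∈ P.map (algebraMap R A)) : ∀ l, b l ∈ P := by
  classical
  have hp : p.Prime := Fact.out
  let e : Fin p → (Fin n → Fin p) := fun l => Function.update (fun _ => ⟨0, hp.pos⟩) i₀ l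
  let w : A := ∑ i ∈ S.erase i₀, algebraMap R A (c i * coA a S i) * u i
  have hz : zo a c u S = algebraMap R A (c i₀ * coA a S i₀) * u i₀ + w :=
    (Finset.add_sum_erase S _ hi₀).symm
  have hw : ∀ m : ℕ, w ^ m ∈ Submodule.span R (bA '' {e | (e i₀ : ℕ) = 0}) := fun m =>
    adjoin_others a x μ u hu bA hbA i₀ _ (pow_mem (sum_mem fun i hi => mul_mem (Subalgebra.algebraMap_mem _ _)
      (Algebra.subset_adjoin (Set.mem_image_of_mem u (Finset.ne_of_mem_erase hi)))) m)
  -- the coordinate of `u i₀ ^ l`
  have hL : ∀ (l m : Fin p) (y : A), y ∈ Submodule.span R (bA '' {e | (e i₀ : ℕ) = 0}) → m ≠ l →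
      bA.coord (e l) (u i₀ ^ (m : ℕ) * y) = 0 := by
    intro l m y hy hml
    induction hy using Submodule.span_induction with
    | zero => simp
    | add y y' _ _ h h' => rw [mul_add, map_add, h, h', add_zero]
    | smul r y _ h => rw [mul_smul_comm, map_smul, h, smul_zero]
    | mem y hy =>
      obtain ⟨e', he', rfl⟩ := hy
      rw [pow_mul_basis u bA hbA i₀ e' he' m, Module.Basis.coord_apply, Module.Basis.repr_self,
        Finsupp.single_eq_of_ne]
      intro h
      exact hml (by simpa [e] using congrFun h.symm i₀)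
  have hLl : ∀ l : Fin p, bA.coord (e l) (u i₀ ^ (l : ℕ)) = 1 := fun l => by
    have h := pow_mul_basis u bA hbA i₀ (fun _ => ⟨0, hp.pos⟩) rfl l
    rw [hbA (fun _ => ⟨0, hp.pos⟩)] at h
    simp only [pow_zero, Finset.prod_const_one, mul_one] at h
    rw [h, Module.Basis.coord_apply, Module.Basis.repr_self]
    simp [e]
  have hzq : ∀ l q : Fin p, (q : ℕ) ≤ l →
      bA.coord (e l) (zo a c u S ^ (q : ℕ)) = if q = l then (c i₀ * coA a S i₀) ^ (l : ℕ) else 0 := by
    intro l q hql
    rw [hz, add_pow, map_sum]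
    rw [Finset.sum_eq_single (q : ℕ) (fun m hm hmq => ?_) (by simp)]
    · rw [Nat.sub_self, pow_zero, mul_one, Nat.choose_self, Nat.cast_one, mul_one, mul_pow, ← map_pow,
        ← Algebra.smul_def, map_smul]
      split_ifs with h
      · subst h; rw [hLl, smul_eq_mul, mul_one]
      · have := hL l q 1 (by simpa using hw 0) h
        rw [mul_one] at this
        rw [this, smul_zero]
    · have hm' := Finset.mem_range.mp hm
      rw [show (algebraMap R A (c i₀ * coA a S i₀) * u i₀) ^ m * w ^ ((q : ℕ) - m) * ((q : ℕ).choose m : A) =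
        ((c i₀ * coA a S i₀) ^ m * ((q : ℕ).choose m : R)) • (u i₀ ^ m * w ^ ((q : ℕ) - m)) by
          simp only [Algebra.smul_def, map_mul, map_pow, map_natCast]; ring, map_smul]
      rw [show m = ((⟨m, by omega⟩ : Fin p) : ℕ) from rfl, hL l ⟨m, by omega⟩ _ (hw _) (fun h => by
        have := congrArg Fin.val h; simp at this; omega), smul_zero]
  have hmem : ∀ l, bA.coord (e l) (Φo a c u S p b) ∈ P := fun l => by
    have h : Φo a c u S p b ∈ (P • ⊤ : Submodule R A) := by rw [Ideal.smul_top_eq_map]; exact hb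
    refine Submodule.smul_induction_on h (fun r hr y _ => ?_) (fun y y' hy hy' => ?_)
    · rw [map_smul, smul_eq_mul]; exact P.mul_mem_right _ hr
    · rw [map_add]; exact add_mem hy hy'
  intro l
  induction hk : p - (l : ℕ) using Nat.strong_induction_on generalizing l with
  | _ k ih =>
    have h := hmem l
    rw [Φo, map_sum, ← Finset.add_sum_erase _ _ (Finset.mem_univ l)] at h
    rw [← Algebra.smul_def, map_smul, hzq l l le_rfl, if_pos rfl, smul_eq_mul] at h
    have hrest : ∑ q ∈ Finset.univ.erase l, bA.coord (e l) (algebraMap R A (b q) * zo a c u S ^ (q : ℕ)) ∈ P := by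
      refine sum_mem fun q hq => ?_
      rw [← Algebra.smul_def, map_smul, smul_eq_mul]
      rcases lt_trichotomy (q : ℕ) l with hql | hql | hql
      · rw [hzq l q hql.le, if_neg (fun h => by rw [h] at hql; omega), mul_zero]; exact zero_mem _
      · exact absurd (Fin.ext hql) (by simpa using hq)
      · exact P.mul_mem_right _ (ih (p - q) (by have := q.2; omega) q rfl)
    have h2 := (add_mem_cancel_right hrest).mp h
    exact (Ideal.IsPrime.mem_or_mem ‹_› h2).resolve_right fun h3 => hd (Ideal.IsPrime.mem_of_pow_mem ‹_› _ h3)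

variable [CharP A p]

include hc hu in
/-- Polynomials in the orthogonal coordinate reduce to degree `< p`. -/
theorem range_eq [Nontrivial R] : ((Polynomial.aeval (zo a c u S) : Polynomial R →ₐ[R] A).range : Set A) = Set.range (Φo a c u S p) := by
  obtain ⟨hm, hd⟩ := fo_monic (p := p) a x c μ S
  ext t
  constructor
  · rintro ⟨g, rfl⟩
    refine ⟨fun m => (g %ₘ fo a x c μ S p).coeff m, ?_⟩
    show _ = Polynomial.aeval (zo a c u S) g
    conv_rhs => rw [← Polynomial.modByMonic_add_div g (fo a x c μ S p)]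
    rw [map_add, map_mul, aeval_fo a x c μ u S hc hu,
      zero_mul, add_zero, Polynomial.aeval_eq_sum_range' (n := p) ?_, Φo,
      ← Fin.sum_univ_eq_sum_range (fun i => (g %ₘ fo a x c μ S p).coeff i • zo a c u S ^ i)]
    · simp [Algebra.smul_def]
    · refine lt_of_lt_of_le (Polynomial.natDegree_modByMonic_lt g hm fun h => ?_) hd.le
      rw [h, Polynomial.natDegree_one] at hd
      exact (Fact.out : p.Prime).pos.ne hd
  · rintro ⟨b, rfl⟩
    exact ⟨∑ m : Fin p, Polynomial.C (b m) * Polynomial.X ^ (m : ℕ), by simp [Φo]⟩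

variable [IsDomain R]

include hc hu hbA in
theorem ker_eq {i₀ : Fin n} (hi₀ : i₀ ∈ S) (hd : c i₀ * coA a S i₀ ≠ 0) :
    RingHom.ker (Polynomial.aeval (zo a c u S) : Polynomial R →ₐ[R] A) = Ideal.span {fo a x c μ S p} := by
  obtain ⟨hm, hdeg⟩ := fo_monic (p := p) a x c μ S
  refine le_antisymm (fun g hg => ?_) ((Ideal.span_singleton_le_iff_mem _).mpr (aeval_fo a x c μ u S hc hu))
  rw [Ideal.mem_span_singleton, ← Polynomial.modByMonic_eq_zero_iff_dvd hm]
  have hlt : (g %ₘ fo a x c μ S p).natDegree < p := by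
    refine lt_of_lt_of_le (Polynomial.natDegree_modByMonic_lt g hm fun h => ?_) hdeg.le
    rw [h, Polynomial.natDegree_one] at hdeg
    exact (Fact.out : p.Prime).pos.ne hdeg
  have h0 : Φo a c u S p (fun m => (g %ₘ fo a x c μ S p).coeff m) ∈ (⊥ : Ideal R).map (algebraMap R A) := by
    rw [Ideal.map_bot, Ideal.mem_bot]
    have h1 : Polynomial.aeval (zo a c u S) g = 0 := hg
    rw [← Polynomial.modByMonic_add_div g (fo a x c μ S p), map_add, map_mul, aeval_fo a x c μ u S hc hu,
      zero_mul, add_zero, Polynomial.aeval_eq_sum_range' hlt,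
      ← Fin.sum_univ_eq_sum_range (fun i => (g %ₘ fo a x c μ S p).coeff i • zo a c u S ^ i)] at h1
    simpa [Φo, Algebra.smul_def] using h1
  have h := mem_of_Φo_mem a x c μ u S hu bA hbA hi₀ ⊥ (by simpa using hd) _ h0
  refine Polynomial.ext fun m => ?_
  rcases lt_or_ge m p with hm' | hm'
  · simpa using h ⟨m, hm'⟩
  · rw [Polynomial.coeff_eq_zero_of_natDegree_lt (lt_of_lt_of_le hlt hm'), Polynomial.coeff_zero]

variable [UniqueFactorizationMonoid R] [IsDomain A]

include hc hu hbA in
/-- The subalgebra of the orthogonal coordinate is saturated. -/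
theorem saturated (hunit : ∀ i ∈ S, IsUnit (c i)) (hcop : ∀ i j, i ≠ j → IsRelPrime (a i) (a j)) (hS : S.Nonempty) :
    ∀ r : R, r ≠ 0 → ∀ t : A, algebraMap R A r * t ∈ (Polynomial.aeval (zo a c u S) : Polynomial R →ₐ[R] A).range →
      t ∈ (Polynomial.aeval (zo a c u S) : Polynomial R →ₐ[R] A).range := by
  classical
  have hrange := range_eq a x c μ u S hc hu
  intro r
  induction r using UniqueFactorizationMonoid.induction_on_prime with
  | h₁ => exact fun h => absurd rfl h
  | h₂ r hr =>
    intro _ t ht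
    obtain ⟨v, hv⟩ := hr.exists_left_inv
    have := mul_mem (Subalgebra.algebraMap_mem _ v) ht
    rwa [← mul_assoc, ← map_mul, hv, map_one, one_mul] at this
  | h₃ r π hr hπ ih =>
    intro _ t ht
    rw [map_mul, mul_assoc] at ht
    refine ih hr t ?_
    obtain ⟨i₀, hi₀, hπi⟩ : ∃ i ∈ S, ¬ π ∣ c i * coA a S i := by
      by_contra! hall
      have h1 : ∀ i ∈ S, ∃ j ∈ S.erase i, π ∣ a j := fun i hi => by
        have h := (hπ.dvd_or_dvd (hall i hi)).resolve_left fun h => hπ.not_unit (isUnit_of_dvd_unit h (hunit i hi))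
        exact (Prime.dvd_finsetProd_iff hπ _).mp h
      obtain ⟨i, hi⟩ := hS
      obtain ⟨j, hj, hjd⟩ := h1 i hi
      obtain ⟨l, hl, hld⟩ := h1 j (Finset.mem_of_mem_erase hj)
      exact hπ.not_unit (hcop l j (Finset.ne_of_mem_erase hl) hld hjd)
    obtain ⟨b, hb⟩ := (Set.ext_iff.mp hrange _).mp ht
    haveI : (Ideal.span {π}).IsPrime := (Ideal.span_singleton_prime hπ.ne_zero).mpr hπ
    have hmem := mem_of_Φo_mem a x c μ u S hu bA hbA hi₀ (Ideal.span {π}) (by rwa [Ideal.mem_span_singleton]) b (by
      rw [hb]; exact Ideal.mul_mem_right _ _ (Ideal.mem_map_of_mem _ (Ideal.mem_span_singleton_self π)))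
    choose b' hb' using fun l => Ideal.mem_span_singleton.mp (hmem l)
    have hπA : algebraMap R A π ≠ 0 := fun h => by
      have h2 : π • bA (fun _ => ⟨0, (Fact.out : p.Prime).pos⟩) = 0 := by rw [Algebra.smul_def, h, zero_mul]
      exact hπ.ne_zero (by simpa using congrArg (fun w => bA.repr w (fun _ => ⟨0, (Fact.out : p.Prime).pos⟩)) h2)
    refine (Set.ext_iff.mp hrange _).mpr ⟨b', mul_left_cancel₀ hπA (Eq.trans ?_ hb)⟩
    simp [Φo, Finset.mul_sum, hb', mul_assoc]

include hc hu hbA in
/-- Elements fixed by the translations preserving `z` are polynomials in `z`. -/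
theorem mem_range_of_fixed [CharP R p] (hgen : Algebra.adjoin R (Set.range u) = ⊤) (hunit : ∀ i ∈ S, IsUnit (c i))
    (hcop : ∀ i j, i ≠ j → IsRelPrime (a i) (a j)) (ha : ∀ i, a i ≠ 0) (hμ : μ ≠ 0) {i₀ : Fin n} (hi₀ : i₀ ∈ S)
    (τ : Fin n → (A →ₐ[R] A)) (hτz : ∀ j, j ≠ i₀ → τ j (zo a c u S) = zo a c u S)
    (hτu : ∀ j l, j ≠ i₀ → l ≠ i₀ → τ j (u l) = u l + if j = l then algebraMap R A (μ * a l) else 0)
    (t : A) (ht : ∀ j, j ≠ i₀ → τ j t = t) :
    t ∈ (Polynomial.aeval (zo a c u S) : Polynomial R →ₐ[R] A).range := by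
  classical
  have hp : p.Prime := Fact.out
  let d := c i₀ * coA a S i₀
  let T : Finset (Fin n) → Subalgebra R A := fun F => Algebra.adjoin R (insert (zo a c u S) (u '' F))
  -- saturation by all the coordinates
  obtain ⟨N, hN⟩ : ∃ N : ℕ, algebraMap R A d ^ N * t ∈ T (Finset.univ.erase i₀) := by
    have hmem : t ∈ Algebra.adjoin R (Set.range u) := hgen ▸ Algebra.mem_top
    clear ht
    induction hmem using Algebra.adjoin_induction with
    | mem t ht =>
      obtain ⟨j, rfl⟩ := ht
      have hT : ∀ l, l ≠ i₀ → u l ∈ T (Finset.univ.erase i₀) := fun l hl =>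
        Algebra.subset_adjoin (Set.mem_insert_of_mem _ (Set.mem_image_of_mem u (by simp [hl])))
      rcases eq_or_ne j i₀ with rfl | hj
      · refine ⟨1, ?_⟩
        rw [pow_one, show algebraMap R A d * u j = zo a c u S - ∑ i ∈ S.erase j, algebraMap R A (c i * coA a S i) * u i by
          rw [zo, ← Finset.add_sum_erase S _ hi₀, add_sub_cancel_right]]
        exact sub_mem (Algebra.subset_adjoin (Set.mem_insert _ _))
          (sum_mem fun i hi => mul_mem (Subalgebra.algebraMap_mem _ _) (hT i (Finset.ne_of_mem_erase hi)))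
      · exact ⟨0, by rw [pow_zero, one_mul]; exact hT j hj⟩
    | algebraMap r => exact ⟨0, by rw [pow_zero, one_mul]; exact Subalgebra.algebraMap_mem _ r⟩
    | add t t' _ _ h h' =>
      obtain ⟨N, hN⟩ := h
      obtain ⟨N', hN'⟩ := h'
      refine ⟨N + N', ?_⟩
      rw [show algebraMap R A d ^ (N + N') * (t + t') = algebraMap R A d ^ N' * (algebraMap R A d ^ N * t) +
        algebraMap R A d ^ N * (algebraMap R A d ^ N' * t') by ring]
      exact add_mem (mul_mem (pow_mem (Subalgebra.algebraMap_mem _ _) _) hN)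
        (mul_mem (pow_mem (Subalgebra.algebraMap_mem _ _) _) hN')
    | mul t t' _ _ h h' =>
      obtain ⟨N, hN⟩ := h
      obtain ⟨N', hN'⟩ := h'
      refine ⟨N + N', ?_⟩
      rw [show algebraMap R A d ^ (N + N') * (t * t') = (algebraMap R A d ^ N * t) * (algebraMap R A d ^ N' * t') by ring]
      exact mul_mem hN hN'
  -- eliminating the coordinates one by one
  have helim : ∀ F : Finset (Fin n), i₀ ∉ F → ∀ y ∈ T F, (∀ j, j ≠ i₀ → τ j y = y) → y ∈ T ∅ := by
    intro F
    induction F using Finset.induction_on with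
    | empty => exact fun _ y hy _ => hy
    | insert j F hjF ih =>
      intro hiF y hy hfix
      have hji : j ≠ i₀ := fun h => hiF (h ▸ Finset.mem_insert_self _ _)
      let M : Submodule R A := Submodule.span R (Set.image2 (fun (w : A) (l : ℕ) => w * u j ^ l) (T F) (Set.Iio p))
      have hM : ∀ w ∈ T F, ∀ l < p, w * u j ^ l ∈ M := fun w hw l hl => Submodule.subset_span ⟨w, hw, l, hl, rfl⟩
      have hmulM : ∀ g ∈ insert (zo a c u S) (u '' (insert j F : Finset (Fin n))), ∀ m ∈ M, g * m ∈ M := by
        intro g hg m hm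
        induction hm using Submodule.span_induction with
        | zero => rw [mul_zero]; exact zero_mem _
        | add m m' _ _ h h' => rw [mul_add]; exact add_mem h h'
        | smul r m _ h => rw [mul_smul_comm]; exact Submodule.smul_mem _ r h
        | mem m hm =>
          obtain ⟨w, hw, l, hl, rfl⟩ := hm
          simp only [Set.mem_Iio] at hl
          by_cases hgT : g ∈ T F
          · rw [← mul_assoc]; exact hM _ (mul_mem hgT hw) l hl
          · have hgj : g = u j := by
              rcases hg with rfl | ⟨i, hi, rfl⟩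
              · exact absurd (Algebra.subset_adjoin (Set.mem_insert _ _)) hgT
              · rcases Finset.mem_insert.mp hi with rfl | hi
                · rfl
                · exact absurd (Algebra.subset_adjoin (Set.mem_insert_of_mem _ (Set.mem_image_of_mem u hi))) hgT
            rw [hgj, show u j * (w * u j ^ l) = w * u j ^ (l + 1) by ring]
            rcases (show l + 1 < p ∨ l + 1 = p by omega) with h | h
            · exact hM w hw _ h
            · rw [h, hu, mul_add, ← mul_assoc]
              refine add_mem ?_ ?_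
              · simpa using hM _ (mul_mem hw (Subalgebra.algebraMap_mem _ ((μ * a j) ^ (p - 1)))) 1 hp.one_lt
              · simpa using hM _ (mul_mem hw (Subalgebra.algebraMap_mem _ (x j))) 0 hp.pos
      have hTM : ∀ w ∈ T (insert j F), ∀ m ∈ M, w * m ∈ M := by
        intro w hw
        induction hw using Algebra.adjoin_induction with
        | mem w hw => exact hmulM w hw
        | algebraMap r => intro m hm; rw [← Algebra.smul_def]; exact Submodule.smul_mem _ r hm
        | add w w' _ _ h h' => intro m hm; rw [add_mul]; exact add_mem (h m hm) (h' m hm)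
        | mul w w' _ _ h h' => intro m hm; rw [mul_assoc]; exact h _ (h' m hm)
      have hyM : y ∈ M := by simpa using hTM y hy 1 (by simpa using hM 1 (one_mem _) 0 hp.pos)
      -- coefficients
      obtain ⟨b, hbT, hby⟩ : ∃ b : ℕ → A, (∀ l, b l ∈ T F) ∧ y = ∑ l ∈ Finset.range p, b l * u j ^ l := by
        clear hfix hy
        induction hyM using Submodule.span_induction with
        | zero => exact ⟨0, fun _ => zero_mem _, by simp⟩
        | add y y' _ _ h h' =>
          obtain ⟨b, hb, rfl⟩ := h
          obtain ⟨b', hb', rfl⟩ := h'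
          exact ⟨b + b', fun l => add_mem (hb l) (hb' l), by simp [add_mul, Finset.sum_add_distrib]⟩
        | smul r y _ h =>
          obtain ⟨b, hb, rfl⟩ := h
          exact ⟨fun l => r • b l, fun l => Subalgebra.smul_mem _ (hb l) r, by simp [Finset.smul_sum]⟩
        | mem y hy =>
          obtain ⟨w, hw, l, hl, rfl⟩ := hy
          refine ⟨Pi.single l w, fun l' => ?_, ?_⟩
          · rcases eq_or_ne l' l with rfl | h
            · simpa using hw
            · rw [Pi.single_eq_of_ne h]; exact zero_mem _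
          · rw [Finset.sum_eq_single l (fun l' _ h => by simp [Pi.single_eq_of_ne h])
              (fun h => absurd (Finset.mem_range.mpr hl) h), Pi.single_eq_same]
      have hfixT : ∀ w ∈ T F, τ j w = w := by
        intro w hw
        induction hw using Algebra.adjoin_induction with
        | mem w hw =>
          rcases hw with rfl | ⟨l, hl, rfl⟩
          · exact hτz j hji
          · rw [hτu j l hji (fun h => hiF (h ▸ Finset.mem_insert_of_mem hl)), if_neg (fun h => hjF (by rw [h]; exact hl)), add_zero]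
        | algebraMap r => exact (τ j).commutes r
        | add w w' _ _ h h' => rw [map_add, h, h']
        | mul w w' _ _ h h' => rw [map_mul, h, h']
      have hy0 : y = b 0 := eq_head_of_shift (p := p) (τ j).toRingHom (u j) (algebraMap R A (μ * a j)) (fun h => by
          have h2 : (μ * a j) • bA (fun _ => ⟨0, hp.pos⟩) = 0 := by rw [Algebra.smul_def, h, zero_mul]
          exact mul_ne_zero hμ (ha j) (by simpa using congrArg (fun w => bA.repr w (fun _ => ⟨0, hp.pos⟩)) h2))
        (by simpa using hτu j j hji hji) ((τ j).commutes _) b (fun l _ => hfixT _ (hbT l)) y hby (hfix j hji)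
      rw [hy0] at hfix ⊢
      exact ih (fun h => hiF (Finset.mem_insert_of_mem h)) _ (hbT 0) hfix
  have hfin : algebraMap R A d ^ N * t ∈ T ∅ := helim _ (Finset.notMem_erase _ _) _ hN fun j hj => by
    rw [map_mul, map_pow, AlgHom.commutes, ht j hj]
  have hd : d ≠ 0 := mul_ne_zero (hunit i₀ hi₀).ne_zero (Finset.prod_ne_zero_iff.mpr fun j _ => ha j)
  refine saturated a x c μ u S hc hu bA hbA hunit hcop ⟨i₀, hi₀⟩ (d ^ N) (pow_ne_zero _ hd) t ?_
  rw [map_pow, ← Algebra.adjoin_singleton_eq_range_aeval]
  simpa [T] using hfin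

end Groth.Agent.WildQuot7
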